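import Cfsg.Agent.SU4Geo98.Orth.Rigid

/-!
The orthogonal subfield group is maximal in `SU₄(q)`, `q ≥ 5` odd (clause 8 of S5783, helper98).
-/

set_option autoImplicit false
set_option linter.unusedSectionVars false

namespace Cfsg.Agent.SU4Geo98.Orth

open Matrix Cfsg.Agent.MaxSub Cfsg.Agent.HermStab Cfsg.Agent.SubfieldTwo

variable {ι : Type} [Fintype ι] [DecidableEq ι] {F : Type*} [Field F] [Finite F]
variable {σ : F ≃+* F} {f : (ι → F) → (ι → F) → F} {F₀ : Subfield F} {P : GL ι F} {ε : F}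
variable {M : Subgroup (GL ι F)}

local notation:73 g:74 " ◆ " x:73 => (Units.val g) *ᵥ x

variable (C : Ctx σ f F₀ P ε)
include C

/-- An element outside the subfield group moves a rational singular point off the rational
points. -/
theorem exists_nonrat_singular {g : GL ι F} (hg : g ∉ Geo.subfieldSubgroup F₀ P)
    (hgi : g ∈ isom f) :
    ∃ p, Rat F₀ P p ∧ p ≠ 0 ∧ f p p = 0 ∧
      ∀ (b : F) (w : ι → F), Rat F₀ P w → g ◆ p ≠ b • w := by
  by_contra hcon
  simp only [not_exists, not_and, not_forall, not_not] at hcon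
  obtain ⟨p₀, hp₀, hp00, hpp₀, -⟩ := SubfieldOrth.exists_rat_singular C.uf C.idx C.rat C.two
    (![] : Fin 0 → ι → F) (fun i => i.elim0) (by have := C.card; omega)
  obtain ⟨l, w₀, hw₀, hgl⟩ := hcon p₀ hp₀ hp00 hpp₀
  have hl : l ≠ 0 := fun h => mulVec_ne_zero g hp00 (by rw [hgl, h, zero_smul])
  have key : ∀ p p' : ι → F, Rat F₀ P p → p ≠ 0 → f p p = 0 → Rat F₀ P p' → f p p' ≠ 0 →
      Rat F₀ P (l⁻¹ • (g ◆ p')) → Rat F₀ P (l⁻¹ • (g ◆ p)) := by
    intro p p' hp hp0 hpp hp' hne h'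
    obtain ⟨m, w, hw, hgm⟩ := hcon p hp hp0 hpp
    set w' := l⁻¹ • (g ◆ p') with hw'
    have hgp' : g ◆ p' = l • w' := by
      rw [hw', smul_smul, mul_inv_cancel₀ hl, one_smul]
    have h1 := mem_isom.mp hgi p p'
    rw [hgm, hgp', C.uf.smul_left, hsmul_right C.uf] at h1
    have hww : f w w' ≠ 0 := fun h => hne (by rw [← h1, h, mul_zero, mul_zero])
    have h3 : m * σ l ∈ F₀ := by
      have : m * σ l = f p p' / f w w' := by rw [← h1]; field_simp
      rw [this]; exact div_mem (C.rat _ _ hp hp') (C.rat _ _ hw h')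
    have h4 : l * σ l ∈ F₀ :=
      (C.idx.mem_iff _).mpr (by rw [map_mul, C.idx.invol, mul_comm])
    rw [hgm, smul_smul]
    refine rat_smul ?_ hw
    have hsl : σ l ≠ 0 := by simpa using hl
    rw [show l⁻¹ * m = (m * σ l) / (l * σ l) by field_simp]
    exact div_mem h3 h4
  have all : ∀ p, Rat F₀ P p → f p p = 0 → Rat F₀ P (l⁻¹ • (g ◆ p)) := by
    intro p hp hpp
    by_cases hp0 : p = 0
    · rw [hp0, mulVec_zero, smul_zero]; exact rat_zero
    obtain ⟨e, he, hee, hep, hep'⟩ := exists_third C hp hpp hp0 hp₀ hpp₀ hp00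
    have he0 : e ≠ 0 := fun h => hep (by rw [h, hzero_left C.uf])
    refine key p e hp hp0 hpp he (hswap_ne_zero C.uf hep) (key e p₀ he he0 hee hp₀ hep' ?_)
    rw [hgl, smul_smul, inv_mul_cancel₀ hl, one_smul]
    exact hw₀
  refine hg (mem_of_rat (inv_ne_zero hl) fun v hv => ?_)
  by_cases hv0 : v = 0
  · rw [hv0, mulVec_zero, smul_zero]; exact rat_zero
  obtain ⟨p, hp, hpp, hpv⟩ := exists_nonorth C hv hv0
  obtain ⟨t, ht, hq, hqq⟩ := SubfieldOrth.singular_shift C.uf C.idx C.rat C.two hv hp hpp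
    (hswap_ne_zero C.uf hpv)
  have h5 := rat_sub (all _ hq hqq) (rat_smul ht (all p hp hpp))
  rwa [mulVec_add, mulVec_smul, smul_add, smul_comm, add_sub_cancel_right] at h5

theorem refl_rat {c x : ι → F} (hc : Rat F₀ P c) (hcc : f c c ≠ 0) (hx : Rat F₀ P x) :
    Rat F₀ P (refl f c ◆ x) := by
  rw [refl_mulVec C.uf hcc]
  exact rat_sub hx (rat_smul (div_mem (mul_mem (ofNat_mem F₀ 2) (C.rat x c hx hc))
    (C.rat c c hc hc)) hc)

theorem eps_sq_mem : ε * ε ∈ F₀ :=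
  (C.idx.mem_iff _).mpr (by rw [map_mul, C.skew]; ring)

theorem sq_ne {t : F} (ht : t ∈ F₀) : t ^ 2 ≠ ε * ε := fun h => by
  have h1 : (t - ε) * (t + ε) = 0 := by linear_combination h
  have h2 := fix C ht
  rcases mul_eq_zero.mp h1 with h3 | h3
  · rw [sub_eq_zero.mp h3, C.skew] at h2
    exact mul_ne_zero C.two C.eps0 (by linear_combination -h2)
  · rw [eq_neg_of_add_eq_zero_left h3, map_neg, C.skew] at h2
    exact mul_ne_zero C.two C.eps0 (by linear_combination h2)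

/-- A parameter for the auxiliary rotations. -/
theorem exists_param : ∃ s ∈ F₀, s ≠ 0 ∧ s ^ 2 + ε * ε ≠ 0 := by
  obtain ⟨μ, hμ, hμ0, hμ2⟩ := C.big
  by_cases h : (1 : F) + ε * ε = 0
  · exact ⟨μ, hμ, hμ0, fun h' => hμ2 (by linear_combination h' - h)⟩
  · exact ⟨1, one_mem F₀, one_ne_zero, by simpa using h⟩

variable (hM : HasH f F₀ P M) (hN : NoTrans σ f F₀ P M)
include hM hN

/-- The rational span of the point `w = g⁻¹ a` is not totally singular. -/
theorem not_singular_span {g : GL ι F} (hgM : g ∈ M) (hgi : g ∈ isom f) {a : ι → F}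
    (ha : Rat F₀ P a) (ha0 : a ≠ 0) (haa : f a a = 0) {u₁ u₂ : ι → F} (hu₁ : Rat F₀ P u₁)
    (hu₂ : Rat F₀ P u₂) (hind : ∀ s t : F, s • u₁ + t • u₂ = 0 → s = 0 ∧ t = 0)
    (hw : g ◆ (u₁ + ε • u₂) = a) (hA : f u₁ u₁ = 0) (hB : f u₁ u₂ = 0)
    (hC : f u₂ u₂ = 0) : False := by
  obtain ⟨t, ht, ht0, ht2⟩ := exists_param C
  have h2 := C.two
  have hden : ε * ε - t ^ 2 ≠ 0 := sub_ne_zero.mpr (Ne.symm (sq_ne C ht))
  set s := 2 * t / (ε * ε - t ^ 2) with hs
  have hsF : s ∈ F₀ :=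
    div_mem (mul_mem (ofNat_mem F₀ 2) ht) (sub_mem (eps_sq_mem C) (pow_mem ht 2))
  have hsd : s * (ε * ε - t ^ 2) = 2 * t := by rw [hs, div_mul_cancel₀ _ hden]
  set η := 1 + s * t + ε * s with hη
  have hst : 1 + s * t ≠ 0 := fun h => ht2 (by
    linear_combination (ε * ε - t ^ 2) * h - t * hsd)
  have hs0 : s ≠ 0 := div_ne_zero (mul_ne_zero C.two ht0) hden
  have hση : σ η = 1 + s * t - ε * s := by
    rw [hη, map_add, map_add, map_one, map_mul, map_mul, fix C hsF, fix C ht, C.skew]; ring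
  have hN1 : η * σ η = 1 := by rw [hση, hη]; linear_combination -s * hsd
  have hη0 : η ≠ 0 := left_ne_zero_of_mul_eq_one hN1
  have hη4 : η ^ 4 ≠ 1 := by
    intro h4
    have h5 : (η ^ 2 - 1) * (η ^ 2 + 1) = 0 := by linear_combination h4
    rcases mul_eq_zero.mp h5 with h6 | h6
    · -- `η = ση`
      have h7 : η = σ η := mul_left_cancel₀ hη0 (by linear_combination h6 - hN1)
      rw [hση, hη] at h7
      exact mul_ne_zero (mul_ne_zero C.two C.eps0) hs0 (by linear_combination h7)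
    · -- `η = -ση`
      have h7 : η = -σ η := mul_left_cancel₀ hη0 (by linear_combination h6 + hN1)
      rw [hση, hη] at h7
      exact mul_ne_zero C.two hst (by linear_combination h7)
  -- rational dual vectors
  have h21 : u₂ ∉ Submodule.span F (Set.range ![u₁]) := by
    intro hm
    simp only [Matrix.range_cons, Matrix.range_empty, Set.union_empty] at hm
    obtain ⟨r, hr⟩ := Submodule.mem_span_singleton.mp hm
    exact one_ne_zero (α := F) (by simpa using (hind r (-1) (by rw [hr]; simp)).2)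
  have h12 : u₁ ∉ Submodule.span F (Set.range ![u₂]) := by
    intro hm
    simp only [Matrix.range_cons, Matrix.range_empty, Set.union_empty] at hm
    obtain ⟨r, hr⟩ := Submodule.mem_span_singleton.mp hm
    exact one_ne_zero (α := F) (by simpa using (hind (-1) r (by rw [hr]; simp)).1)
  obtain ⟨z₂, hz₂, hz₂p, hz₂n⟩ :=
    SubfieldOrth.exists_rat_dual C.uf C.idx C.rat ![u₁] (by simpa) h21
  obtain ⟨z₁, hz₁, hz₁p, hz₁n⟩ :=
    SubfieldOrth.exists_rat_dual C.uf C.idx C.rat ![u₂] (by simpa) h12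
  have hz₂u : f z₂ u₁ = 0 := hz₂p 0
  have hz₁u : f z₁ u₂ = 0 := hz₁p 0
  set v₂ := (-(s / f z₂ u₂)) • z₂ with hv₂
  set v₁ := (-(t / f z₁ u₁)) • z₁ with hv₁
  have hv₂r : Rat F₀ P v₂ :=
    rat_smul (neg_mem (div_mem hsF (C.rat z₂ u₂ hz₂ hu₂))) hz₂
  have hv₁r : Rat F₀ P v₁ := rat_smul (neg_mem (div_mem ht (C.rat z₁ u₁ hz₁ hu₁))) hz₁
  have hv₂u : f v₂ u₁ = 0 := by rw [hv₂, C.uf.smul_left, hz₂u, mul_zero]
  have hv₁u : f v₁ u₂ = 0 := by rw [hv₁, C.uf.smul_left, hz₁u, mul_zero]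
  have hu₂v : f u₂ v₂ = -s := by
    rw [symm C hv₂r hu₂, hv₂, C.uf.smul_left, neg_mul, div_mul_cancel₀ _ hz₂n]
  have hu₁v : f u₁ v₁ = -t := by
    rw [symm C hv₁r hu₁, hv₁, C.uf.smul_left, neg_mul, div_mul_cancel₀ _ hz₁n]
  set X := qe f u₁ v₂ (-f v₂ v₂ / 2) with hX
  set Y := qe f u₂ v₁ (-f v₁ v₁ / 2) with hY
  have hB' : f u₂ u₁ = 0 := hswap_zero C.uf hB
  have hXu : X ◆ u₁ = u₁ ∧ X ◆ u₂ = u₂ + s • u₁ := by
    rw [hX, qe_mulVec C.uf hA hv₂u, qe_mulVec C.uf hA hv₂u, hA, hswap_zero C.uf hv₂u, hB', hu₂v]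
    constructor <;> module
  have hYu : Y ◆ u₁ = u₁ + t • u₂ ∧ Y ◆ u₂ = u₂ := by
    rw [hY, qe_mulVec C.uf hC hv₁u, qe_mulVec C.uf hC hv₁u, hC, hswap_zero C.uf hv₁u, hB, hu₁v]
    constructor <;> module
  have hXm : X ∈ M ∧ X ∈ isom f :=
    ⟨qe_mem C hM hu₁ hv₂r hA hv₂u,
      (qe_mem_su C.uf hA hv₂u (SubfieldOrth.half_trace C.uf C.idx C.rat hv₂r C.two)).1⟩
  have hYm : Y ∈ M ∧ Y ∈ isom f :=
    ⟨qe_mem C hM hu₂ hv₁r hC hv₁u,
      (qe_mem_su C.uf hC hv₁u (SubfieldOrth.half_trace C.uf C.idx C.rat hv₁r C.two)).1⟩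
  set h := Y * X * Y with hh
  have hhM : h ∈ M := mul_mem (mul_mem hYm.1 hXm.1) hYm.1
  have hhi : h ∈ isom f := mul_mem (mul_mem hYm.2 hXm.2) hYm.2
  have hh1 : h ◆ u₁ = (1 + s * t) • u₁ + (t * (2 + s * t)) • u₂ := by
    rw [hh, Units.val_mul, Units.val_mul, ← mulVec_mulVec, ← mulVec_mulVec, hYu.1, mulVec_add,
      mulVec_smul, hXu.1, hXu.2, mulVec_add, mulVec_smul, mulVec_add, mulVec_smul, hYu.1, hYu.2]
    module
  have hh2 : h ◆ u₂ = s • u₁ + (1 + s * t) • u₂ := by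
    rw [hh, Units.val_mul, Units.val_mul, ← mulVec_mulVec, ← mulVec_mulVec, hYu.2, hXu.2,
      mulVec_add, mulVec_smul, hYu.1, hYu.2]
    module
  have hts : t * (2 + s * t) = ε * ε * s := by linear_combination -hsd
  set w := u₁ + ε • u₂ with hwdef
  set w' := u₁ - ε • u₂ with hw'def
  have hhw : h ◆ w = η • w := by
    rw [hwdef, mulVec_add, mulVec_smul, hh1, hh2, hts, hη]
    module
  have hhw' : h ◆ w' = σ η • w' := by
    rw [hw'def, mulVec_sub, mulVec_smul, hh1, hh2, hts, hση]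
    module
  -- `k = g h g⁻¹` fixes `a`
  set k := g * h * g⁻¹ with hk
  have hkM : k ∈ M := mul_mem (mul_mem hgM hhM) (inv_mem hgM)
  have hki : k ∈ isom f := mul_mem (mul_mem hgi hhi) (inv_mem hgi)
  have kg : ∀ x, k ◆ (g ◆ x) = g ◆ (h ◆ x) := fun x => by
    rw [hk, Units.val_mul, Units.val_mul, ← mulVec_mulVec, ← mulVec_mulVec, inv_mulVec_mulVec]
  have hka : k ◆ a = η • a := by rw [← hw, kg, hhw, mulVec_smul]
  have hkr := rat_of_fix C hM hN ha ha0 haa hkM hki hka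
  -- conjugate eigenvector
  set y := g ◆ w' with hy
  have hky : k ◆ y = σ η • y := by rw [hy, kg, hhw', mulVec_smul]
  obtain ⟨y₁, y₂, hy₁, hy₂, hys⟩ := exists_rat_split (P := P) C.idx y
  obtain ⟨r₁, hr₁, r₂, hr₂, hrs⟩ : ∃ r₁ ∈ F₀, ∃ r₂ ∈ F₀, r₁ + ε * r₂ = σ η * σ η :=
    exists_split C.idx _
  have hr' : r₁ - ε * r₂ = η * η := by
    have := congrArg σ hrs
    rw [map_add, map_mul, map_mul, fix C hr₁, fix C hr₂, C.skew, C.uf.involutive] at this
    linear_combination this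
  have hd2 := eps_sq_mem C
  have hsum : (σ η • (k ◆ y₁) - (r₁ • y₁ + (ε * ε * r₂) • y₂)) +
      ε • (σ η • (k ◆ y₂) - (r₁ • y₂ + r₂ • y₁)) = 0 := by
    have h0 : σ η • (k ◆ y) = (σ η * σ η) • y := by rw [hky, smul_smul]
    rw [← hys, mulVec_add, mulVec_smul, ← hrs, ← sub_eq_zero] at h0
    rw [← h0]
    module
  obtain ⟨e1, e2⟩ := rat_eq_zero_of_add C.idx
    (rat_sub (hkr y₁ hy₁) (rat_add (rat_smul hr₁ hy₁) (rat_smul (mul_mem hd2 hr₂) hy₂)))
    (rat_sub (hkr y₂ hy₂) (rat_add (rat_smul hr₁ hy₂) (rat_smul hr₂ hy₁))) hsum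
  set y' := y₁ - ε • y₂ with hy'
  have hky' : k ◆ y' = (η ^ 3) • y' := by
    have h1 : σ η • (k ◆ y') = (η * η) • y' := by
      rw [hy', mulVec_sub, mulVec_smul, smul_sub, smul_comm, sub_eq_zero.mp e1,
        sub_eq_zero.mp e2, ← hr']
      module
    have h2 := congrArg (fun v => η • v) h1
    simp only [smul_smul, hN1, one_smul] at h2
    rw [h2]
    congr 1
    ring
  set x := (g⁻¹ : GL ι F) ◆ y' with hx
  have hhx : h ◆ x = (η ^ 3) • x := by
    refine mulVec_injective g ?_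
    show g ◆ (h ◆ x) = g ◆ ((η ^ 3) • x)
    rw [← kg, hx, mulVec_smul, mulVec_inv_mulVec, hky']
  have hgx : g ◆ x = y' := mulVec_inv_mulVec g y'
  have hww' : f w' w = 0 := by
    simp only [hwdef, hw'def, hsub_left C.uf, hadd_right C.uf, C.uf.smul_left, hsmul_right C.uf,
      hA, hB, hB', hC, mul_zero, add_zero, sub_zero]
  have hy0 : y ≠ 0 := mulVec_ne_zero g fun h0 => by
    have := hind 1 (-ε) (by rw [one_smul, neg_smul, ← sub_eq_add_neg]; exact h0)
    exact one_ne_zero this.1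
  have hy'0 : y' ≠ 0 := fun h0 => hy0 (by
    obtain ⟨q1, q2⟩ := rat_eq_zero_of_add C.idx hy₁ (show Rat F₀ P (-y₂) from fun i => by
      rw [mulVec_neg]; exact neg_mem (hy₂ i)) (by rw [smul_neg, ← sub_eq_add_neg, ← hy', h0])
    rw [← hys, q1, neg_eq_zero.mp q2, smul_zero, add_zero])
  have hx0 : x ≠ 0 := mulVec_ne_zero g⁻¹ hy'0
  have hxw : f x w = 0 := by
    rw [← mem_isom.mp hgi, hgx, hw]
    have h1 : f y a = 0 := by rw [hy, ← hw, mem_isom.mp hgi, hww']
    rw [← hys] at h1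
    obtain ⟨q1, q2⟩ := SubfieldOrth.split_zero C.uf C.idx C.rat hy₁ hy₂ ha h1
    rw [hy', hsub_left C.uf, C.uf.smul_left, q1, q2, mul_zero, sub_zero]
  have hxw' : f x w' = 0 := by
    have h1 := mem_isom.mp hhi x w'
    rw [hhx, hhw', C.uf.smul_left, hsmul_right C.uf, C.uf.involutive] at h1
    by_contra hne
    exact hη4 (mul_right_cancel₀ hne (by linear_combination h1))
  have hxx : f x x = 0 := by
    have h1 : f y y = 0 := by
      rw [hy, mem_isom.mp hgi]
      simp only [hw'def, hsub_left C.uf, hsub_right C.uf, C.uf.smul_left, hsmul_right C.uf,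
        hA, hB, hB', hC, mul_zero, sub_zero]
    rw [← mem_isom.mp hgi, hgx, hy']
    rw [← hys] at h1
    simp only [C.uf.add_left, hadd_right C.uf, C.uf.smul_left, hsmul_right C.uf, C.skew] at h1
    have h3 := congrArg σ h1
    simp only [map_add, map_mul, map_neg, map_zero, C.skew, fix C (C.rat y₁ y₁ hy₁ hy₁),
      fix C (C.rat y₁ y₂ hy₁ hy₂), fix C (C.rat y₂ y₁ hy₂ hy₁),
      fix C (C.rat y₂ y₂ hy₂ hy₂)] at h3
    simp only [hsub_left C.uf, hsub_right C.uf, C.uf.smul_left, hsmul_right C.uf, C.skew]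
    linear_combination h3
  -- `x` lies in the totally isotropic plane
  have hxu₂ : f x u₂ = 0 := by
    have h3 : σ ε * 2 * f x u₂ = 0 := by
      simp only [hwdef, hw'def, hadd_right C.uf, hsub_right C.uf, hsmul_right C.uf] at hxw hxw'
      linear_combination hxw - hxw'
    exact (mul_eq_zero.mp h3).resolve_left
      (mul_ne_zero ((map_ne_zero σ).mpr C.eps0) C.two)
  have hxu₁ : f x u₁ = 0 := by
    simp only [hwdef, hadd_right C.uf, hsmul_right C.uf, hxu₂, mul_zero, add_zero] at hxw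
    exact hxw
  by_cases hxs : x ∈ Submodule.span F ({u₁, u₂} : Set (ι → F))
  · obtain ⟨α, β, hαβ⟩ := Submodule.mem_span_pair.mp hxs
    -- coordinates with respect to `w`, `w'`
    have hx' : x = ((α + β / ε) / 2) • w + ((α - β / ε) / 2) • w' := by
      have := C.eps0
      rw [← hαβ, hwdef, hw'def]
      match_scalars <;> field_simp <;> ring
    set p := (α + β / ε) / 2
    set r := (α - β / ε) / 2
    have h1 := hhx
    rw [hx', mulVec_add, mulVec_smul, mulVec_smul, hhw, hhw'] at h1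
    have h2 : (p * (η - η ^ 3)) • w + (r * (σ η - η ^ 3)) • w' = 0 := by
      rw [← sub_eq_zero] at h1
      rw [← h1]
      module
    have h3 : (p * (η - η ^ 3) + r * (σ η - η ^ 3)) • u₁ +
        (ε * (p * (η - η ^ 3) - r * (σ η - η ^ 3))) • u₂ = 0 := by
      rw [← h2, hwdef, hw'def]
      module
    obtain ⟨q1, q2⟩ := hind _ _ h3
    have q2' := (mul_eq_zero.mp q2).resolve_left C.eps0
    have hA' : p * (η - η ^ 3) = 0 := by
      have : 2 * (p * (η - η ^ 3)) = 0 := by linear_combination q1 + q2'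
      exact (mul_eq_zero.mp this).resolve_left C.two
    have hB'' : r * (σ η - η ^ 3) = 0 := by linear_combination q1 - hA'
    have hne1 : η - η ^ 3 ≠ 0 := fun h0 => by
      have h9 : η ^ 2 = 1 := by
        have : η * (1 - η ^ 2) = 0 := by linear_combination h0
        exact (sub_eq_zero.mp ((mul_eq_zero.mp this).resolve_left hη0)).symm
      exact hη4 (by linear_combination (η ^ 2 + 1) * h9)
    have hne2 : σ η - η ^ 3 ≠ 0 := fun h0 => hη4 (by linear_combination (-η) * h0 + hN1)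
    refine hx0 ?_
    rw [hx', (mul_eq_zero.mp hA').resolve_right hne1, (mul_eq_zero.mp hB'').resolve_right hne2]
    simp
  · set K := Submodule.span F ({x, u₁, u₂} : Set (ι → F))
    have hK : ∀ v ∈ K, ∀ v' ∈ K, f v v' = 0 := by
      have hgen : ∀ v ∈ ({x, u₁, u₂} : Set (ι → F)), ∀ v' ∈ ({x, u₁, u₂} : Set (ι → F)),
          f v v' = 0 := by
        simp only [Set.mem_insert_iff, Set.mem_singleton_iff]
        rintro v (rfl | rfl | rfl) v' (rfl | rfl | rfl) <;>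
          first | assumption | exact hswap_zero C.uf (by assumption)
      intro v hv v' hv'
      induction hv using Submodule.span_induction with
      | mem v hv =>
        induction hv' using Submodule.span_induction with
        | mem v' hv' => exact hgen v hv v' hv'
        | zero => exact hzero_right C.uf _
        | add _ _ _ _ h1 h2 => rw [hadd_right C.uf, h1, h2, add_zero]
        | smul c _ _ h1 => rw [hsmul_right C.uf, h1, mul_zero]
      | zero => exact hzero_left C.uf _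
      | add _ _ _ _ h1 h2 => rw [C.uf.add_left, h1, h2, add_zero]
      | smul c _ _ h1 => rw [C.uf.smul_left, h1, mul_zero]
    have h1 := finrank_le_half C.uf hK
    have hli : LinearIndependent F ![x, u₁, u₂] := by
      show LinearIndependent F (Fin.cons x ![u₁, u₂])
      rw [linearIndependent_finCons]
      refine ⟨LinearIndependent.pair_iff.mpr hind, ?_⟩
      simpa [Matrix.range_cons, Matrix.range_empty, Set.pair_comm] using hxs
    have h3 : Module.finrank F K = 3 := by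
      have h4 := finrank_span_eq_card hli
      rw [Matrix.range_cons, Matrix.range_cons, Matrix.range_cons, Matrix.range_empty,
        Set.union_empty, Set.singleton_union, Set.singleton_union] at h4
      simpa [K] using h4
    have := C.card
    omega

theorem no_nonrat {g : GL ι F} (hgM : g ∈ M) (hgi : g ∈ isom f) {a : ι → F} (ha : Rat F₀ P a)
    (ha0 : a ≠ 0) (haa : f a a = 0)
    (hn : ∀ (b : F) (v : ι → F), Rat F₀ P v → (g⁻¹ : GL ι F) ◆ a ≠ b • v) : False := by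
  obtain ⟨u₁, u₂, hu₁, hu₂, hws⟩ := exists_rat_split (P := P) C.idx ((g⁻¹ : GL ι F) ◆ a)
  have hind : ∀ s t : F, s • u₁ + t • u₂ = 0 → s = 0 ∧ t = 0 := by
    intro s t hst
    have hu₁0 : u₁ ≠ 0 := fun h => hn ε u₂ hu₂ (by rw [← hws, h, zero_add])
    by_cases ht : t = 0
    · subst ht
      rw [zero_smul, add_zero] at hst
      exact ⟨(smul_eq_zero.mp hst).resolve_right hu₁0, rfl⟩
    exfalso
    have h1 : u₂ = (-(t⁻¹ * s)) • u₁ := by
      rw [neg_smul, ← smul_smul, eq_neg_of_add_eq_zero_left hst, smul_neg, neg_neg, smul_smul,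
        inv_mul_cancel₀ ht, one_smul]
    obtain ⟨b, v, hv, e⟩ := smul_of_dependent C.idx hu₁ hu₂ h1
    exact hn b v hv (by rw [← hws, e])
  have hgw : g ◆ (u₁ + ε • u₂) = a := by rw [hws, mulVec_inv_mulVec]
  have hg' := mem_isom.mp hgi
  set w := u₁ + ε • u₂ with hwdef
  have hww : f w w = 0 := by rw [← hg', hgw, haa]
  set A := f u₁ u₁ with hAdef
  set B := f u₁ u₂ with hBdef
  set G := f u₂ u₂ with hGdef
  have hBs : f u₂ u₁ = B := symm C hu₁ hu₂
  have hA : A = ε * ε * G := by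
    have h := hww
    simp only [hwdef, C.uf.add_left, hadd_right C.uf, C.uf.smul_left, hsmul_right C.uf, C.skew,
      hBs, ← hAdef, ← hBdef, ← hGdef] at h
    linear_combination h
  by_cases hts : G = 0 ∧ B = 0
  · exact not_singular_span C hM hN hgM hgi ha ha0 haa hu₁ hu₂ hind hgw
      (by rw [← hAdef, hA, hts.1, mul_zero]) hts.2 hts.1
  obtain ⟨s, hs, hs0, hs2⟩ := exists_param C
  have hGF : G ∈ F₀ := C.rat u₂ u₂ hu₂ hu₂
  have hBF : B ∈ F₀ := C.rat u₁ u₂ hu₁ hu₂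
  -- two orthogonal nonsingular vectors of the plane
  obtain ⟨e₁, e₂, he₁, he₂, he₁n, he₂n, he12, hu1e, hu2e, he1u, he2u⟩ :
      ∃ e₁ e₂, Rat F₀ P e₁ ∧ Rat F₀ P e₂ ∧ f e₁ e₁ ≠ 0 ∧ f e₂ e₂ ≠ 0 ∧ f e₁ e₂ = 0 ∧
        (∃ p r : F, u₁ = p • e₁ + r • e₂) ∧ (∃ p r : F, u₂ = p • e₁ + r • e₂) ∧
        (∃ p r : F, e₁ = p • u₁ + r • u₂) ∧ (∃ p r : F, e₂ = p • u₁ + r • u₂) := by
    by_cases hG : G = 0
    · have hB : B ≠ 0 := fun h => hts ⟨hG, h⟩
      have hA0 : A = 0 := by rw [hA, hG, mul_zero]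
      have h2 := C.two
      refine ⟨u₁ + u₂, u₁ - u₂, rat_add hu₁ hu₂, rat_sub hu₁ hu₂, ?_, ?_, ?_,
        ⟨1 / 2, 1 / 2, ?_⟩, ⟨1 / 2, -(1 / 2), ?_⟩, ⟨1, 1, by simp⟩, ⟨1, -1, by
          rw [one_smul, neg_smul, one_smul, sub_eq_add_neg]⟩⟩
      · simp only [C.uf.add_left, hadd_right C.uf, hBs, ← hAdef, ← hBdef, ← hGdef, hA0, hG,
          zero_add, add_zero]
        exact fun h => mul_ne_zero C.two hB (by linear_combination h)
      · simp only [hsub_left C.uf, hsub_right C.uf, hBs, ← hAdef, ← hBdef, ← hGdef, hA0, hG,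
          zero_sub, sub_zero]
        exact fun h => mul_ne_zero C.two hB (by linear_combination -h)
      · simp only [C.uf.add_left, hsub_right C.uf, hBs, ← hAdef, ← hBdef, ← hGdef, hA0, hG]
        ring
      · match_scalars <;> field_simp <;> ring
      · match_scalars <;> field_simp <;> ring
    · set r := B / G with hr
      have hrF : r ∈ F₀ := div_mem hBF hGF
      refine ⟨u₂, u₁ - r • u₂, hu₂, rat_sub hu₁ (rat_smul hrF hu₂), hG, ?_, ?_,
        ⟨r, 1, by module⟩, ⟨1, 0, by module⟩, ⟨0, 1, by module⟩, ⟨1, -r, by module⟩⟩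
      · simp only [hsub_left C.uf, hsub_right C.uf, C.uf.smul_left, hsmul_right C.uf, fix C hrF,
          hBs, ← hAdef, ← hBdef, ← hGdef]
        intro h
        refine sq_ne C hrF ?_
        rw [hA, hr] at h
        rw [hr]
        field_simp at h ⊢
        linear_combination -h
      · simp only [hsub_right C.uf, hsmul_right C.uf, fix C hrF, hBs, ← hGdef]
        rw [hr, div_mul_cancel₀ _ hG, sub_self]
  have he21 : f e₂ e₁ = 0 := hswap_zero C.uf he12
  have he0 : Even (Fintype.card ι) := ⟨2, by rw [C.card]⟩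
  -- `-1` on the orthogonal plane
  set r₀ := -(refl f e₁ * refl f e₂) with hr₀
  have hr₀su : r₀ ∈ su f := neg_refl_pair_mem C.uf he0 he₁n he₂n
  have hr₀M : r₀ ∈ M := hM _ hr₀su fun x hx => by
    rw [hr₀, Units.val_neg, neg_mulVec, Units.val_mul, ← mulVec_mulVec]
    intro i
    rw [mulVec_neg]
    exact neg_mem (refl_rat C he₁ he₁n (refl_rat C he₂ he₂n hx) i)
  have hr₀v : ∀ x, r₀ ◆ x =
      -x + (2 * f x e₁ / f e₁ e₁) • e₁ + (2 * f x e₂ / f e₂ e₂) • e₂ := fun x => by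
    rw [hr₀, Units.val_neg, neg_mulVec, Units.val_mul, ← mulVec_mulVec, refl_mulVec C.uf he₂n,
      refl_mulVec C.uf he₁n]
    simp only [hsub_left C.uf, C.uf.smul_left, he21, mul_zero, sub_zero]
    module
  have hfixE : ∀ p q : F, r₀ ◆ (p • e₁ + q • e₂) = p • e₁ + q • e₂ := fun p q => by
    rw [hr₀v]
    simp only [C.uf.add_left, C.uf.smul_left, he12, he21, mul_zero, add_zero, zero_add]
    match_scalars <;> field_simp <;> ring
  have hru : r₀ ◆ u₁ = u₁ ∧ r₀ ◆ u₂ = u₂ := by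
    obtain ⟨p, q, h1⟩ := hu1e
    obtain ⟨p', q', h2⟩ := hu2e
    rw [h1, h2]
    exact ⟨hfixE p q, hfixE p' q'⟩
  set k := g * r₀ * g⁻¹ with hk
  have hkM : k ∈ M := mul_mem (mul_mem hgM hr₀M) (inv_mem hgM)
  have hki : k ∈ isom f := mul_mem (mul_mem hgi hr₀su.1) (inv_mem hgi)
  have kg : ∀ x, k ◆ (g ◆ x) = g ◆ (r₀ ◆ x) := fun x => by
    rw [hk, Units.val_mul, Units.val_mul, ← mulVec_mulVec, ← mulVec_mulVec, inv_mulVec_mulVec]
  have hka : k ◆ a = a := by
    rw [← hgw, kg, hwdef, mulVec_add, mulVec_smul, hru.1, hru.2]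
  have hkr : ∀ x, Rat F₀ P x → Rat F₀ P (k ◆ x) := fun x hx => by
    simpa using rat_of_fix C hM hN ha ha0 haa hkM hki (l := 1) (by rw [one_smul, hka]) x hx
  -- the fixed space of `k`
  have hinplane : ∀ x, k ◆ x = x → ∃ p q : F, (g⁻¹ : GL ι F) ◆ x = p • u₁ + q • u₂ := by
    intro x hx
    set v := (g⁻¹ : GL ι F) ◆ x with hv
    have hrv : r₀ ◆ v = v := by
      refine mulVec_injective g ?_
      show g ◆ (r₀ ◆ v) = g ◆ v
      rw [← kg, hv, mulVec_inv_mulVec, hx]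
    rw [hr₀v] at hrv
    obtain ⟨p, q, hpq⟩ := he1u
    obtain ⟨p', q', hpq'⟩ := he2u
    refine ⟨f v e₁ / f e₁ e₁ * p + f v e₂ / f e₂ e₂ * p',
      f v e₁ / f e₁ e₁ * q + f v e₂ / f e₂ e₂ * q', ?_⟩
    have h2 : (2 : F) • v = (2 : F) • ((f v e₁ / f e₁ e₁) • e₁ + (f v e₂ / f e₂ e₂) • e₂) := by
      have h3 := congrArg (fun z => z + v) hrv
      rw [two_smul, ← h3]
      module
    generalize hα : f v e₁ / f e₁ e₁ = α, hβ : f v e₂ / f e₂ e₂ = β at h2 ⊢
    rw [smul_right_injective _ C.two h2, hpq, hpq']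
    module
  have hk1 : k ◆ (g ◆ u₁) = g ◆ u₁ := by rw [kg, hru.1]
  have hk2 : k ◆ (g ◆ u₂) = g ◆ u₂ := by rw [kg, hru.2]
  -- a rational fixed vector not orthogonal to `a`
  obtain ⟨d, hd, hkd, hda⟩ : ∃ d, Rat F₀ P d ∧ k ◆ d = d ∧ f d a ≠ 0 := by
    obtain ⟨X, hX, hXa⟩ : ∃ X, k ◆ X = X ∧ f X a ≠ 0 := by
      by_cases h1 : f (g ◆ u₁) a = 0
      · refine ⟨g ◆ u₂, hk2, fun h2 => ?_⟩
        rw [← hgw, hg'] at h1 h2
        simp only [hwdef, hadd_right C.uf, hsmul_right C.uf, C.skew, hBs, ← hAdef, ← hBdef,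
          ← hGdef] at h1 h2
        -- `A = εB` and `B = εG`
        have hB0 : B = 0 := by
          have h3 := congrArg σ (show B = ε * G by linear_combination h2)
          rw [map_mul, C.skew, fix C hBF, fix C hGF] at h3
          exact (mul_eq_zero.mp (show 2 * B = 0 by linear_combination h3 + h2)).resolve_left C.two
        rw [hB0, zero_add, neg_mul, neg_eq_zero, mul_eq_zero] at h2
        exact hts ⟨h2.resolve_left C.eps0, hB0⟩
      · exact ⟨g ◆ u₁, hk1, h1⟩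
    obtain ⟨x₁, x₂, hx₁, hx₂, rfl⟩ := exists_rat_split (P := P) C.idx X
    rw [← sub_eq_zero, mulVec_add, mulVec_smul] at hX
    obtain ⟨q1, q2⟩ := rat_eq_zero_of_add C.idx (rat_sub (hkr x₁ hx₁) hx₁)
      (rat_sub (hkr x₂ hx₂) hx₂) (by rw [← hX]; module)
    by_cases h1 : f x₁ a = 0
    · refine ⟨x₂, hx₂, sub_eq_zero.mp q2, fun h2 => hXa ?_⟩
      rw [C.uf.add_left, C.uf.smul_left, h1, h2, mul_zero, add_zero]
    · exact ⟨x₁, hx₁, sub_eq_zero.mp q1, h1⟩
  obtain ⟨τ, hτ, hb', hbb'⟩ := SubfieldOrth.singular_shift C.uf C.idx C.rat C.two hd ha haa hda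
  set b := (f d a)⁻¹ • (d + τ • a) with hb
  have hbr : Rat F₀ P b := rat_smul (inv_mem (C.rat d a hd ha)) hb'
  have hbb : f b b = 0 := by rw [hb, C.uf.smul_left, hsmul_right C.uf, hbb']; simp
  have hba : f b a = 1 := by
    rw [hb, C.uf.smul_left, C.uf.add_left, C.uf.smul_left, haa, mul_zero, add_zero,
      inv_mul_cancel₀ hda]
  have hkb : k ◆ b = b := by rw [hb, mulVec_smul, mulVec_add, mulVec_smul, hkd, hka]
  obtain ⟨γ, δ, hw₂⟩ := hinplane b hkb
  set w₂ := (g⁻¹ : GL ι F) ◆ b with hw₂def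
  have hD : δ - ε * γ ≠ 0 := by
    intro h0
    have h1 : w₂ = γ • w := by
      rw [hw₂, hwdef, sub_eq_zero.mp h0]
      module
    have h2 : f w₂ w = 1 := by rw [← hg', hw₂def, mulVec_inv_mulVec, hgw, hba]
    rw [h1, C.uf.smul_left, hww, mul_zero] at h2
    exact zero_ne_one h2
  -- the rotation of the plane
  obtain ⟨c₁, c₂, hc₁, hc₂, hc₁n, hc₂n, him, hc₁u, hc₂u⟩ :
      ∃ c₁ c₂, Rat F₀ P c₁ ∧ Rat F₀ P c₂ ∧ f c₁ c₁ ≠ 0 ∧ f c₂ c₂ ≠ 0 ∧
        f c₁ c₂ * (f u₁ c₁ * f u₂ c₂ - f u₂ c₁ * f u₁ c₂) ≠ 0 ∧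
        (∃ p q : F, c₁ = p • u₁ + q • u₂) ∧ (∃ p q : F, c₂ = p • u₁ + q • u₂) := by
    by_cases hG : G = 0
    · have hB : B ≠ 0 := fun h => hts ⟨hG, h⟩
      have hA0 : A = 0 := by rw [hA, hG, mul_zero]
      obtain ⟨μ, hμ, hμ0, hμ2⟩ := C.big
      refine ⟨u₁ + u₂, u₁ + μ • u₂, rat_add hu₁ hu₂, rat_add hu₁ (rat_smul hμ hu₂), ?_, ?_, ?_,
        ⟨1, 1, by simp⟩, ⟨1, μ, by simp⟩⟩
      all_goals simp only [C.uf.add_left, hadd_right C.uf, C.uf.smul_left, hsmul_right C.uf,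
        fix C hμ, hBs, ← hAdef, ← hBdef, ← hGdef, hA0, hG, mul_zero, zero_add, add_zero]
      · exact fun h => mul_ne_zero C.two hB (by linear_combination h)
      · exact fun h => mul_ne_zero (mul_ne_zero C.two hμ0) hB (by linear_combination h)
      · intro h
        apply mul_ne_zero (mul_ne_zero (mul_ne_zero hB hB) hB) (sub_ne_zero.mpr hμ2)
        linear_combination -h
    · have hd0 : ε * ε ≠ 0 := mul_ne_zero C.eps0 C.eps0
      have hBG : ε * ε * G ^ 2 - B ^ 2 ≠ 0 := by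
        intro h
        refine sq_ne C (div_mem hBF hGF) ?_
        field_simp
        linear_combination -h
      by_cases hB : B = 0
      · refine ⟨u₁, u₁ + s • u₂, hu₁, rat_add hu₁ (rat_smul hs hu₂), ?_, ?_, ?_,
          ⟨1, 0, by simp⟩, ⟨1, s, by simp⟩⟩
        all_goals simp only [C.uf.add_left, hadd_right C.uf, C.uf.smul_left, hsmul_right C.uf,
          fix C hs, hBs, ← hAdef, ← hBdef, ← hGdef, hA, hB, mul_zero, zero_add, add_zero]
        · exact mul_ne_zero hd0 hG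
        · exact fun h => mul_ne_zero hs2 hG (by linear_combination h)
        · exact fun h => mul_ne_zero (mul_ne_zero (mul_ne_zero hd0 hd0)
            (mul_ne_zero (mul_ne_zero hG hG) hG)) hs0 (by linear_combination h)
      · refine ⟨u₁, u₂, hu₁, hu₂, ?_, hG, ?_, ⟨1, 0, by simp⟩, ⟨0, 1, by simp⟩⟩
        · rw [← hAdef, hA]; exact mul_ne_zero hd0 hG
        · rw [hBs, ← hAdef, ← hBdef, ← hGdef, hA]
          exact mul_ne_zero hB fun h => hBG (by linear_combination h)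
  set t := refl f c₁ * refl f c₂ with ht
  have htsu : t ∈ su f := refl_pair_mem C.uf hc₁n hc₂n
  have htM : t ∈ M := hM _ htsu fun x hx => by
    rw [ht, Units.val_mul, ← mulVec_mulVec]
    exact refl_rat C hc₁ hc₁n (refl_rat C hc₂ hc₂n hx)
  set m := g * t * g⁻¹ with hm
  have hfix : ∀ z, Rat F₀ P z → f z a = 0 → f z b = 0 → m ◆ z = z := by
    intro z hz hza hzb
    set v := (g⁻¹ : GL ι F) ◆ z with hv
    have h1 : f v w = 0 := by rw [← hg', hv, mulVec_inv_mulVec, hgw, hza]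
    have h2 : f v w₂ = 0 := by rw [← hg', hv, mulVec_inv_mulVec, hw₂def, mulVec_inv_mulVec, hzb]
    rw [hw₂] at h2
    simp only [hwdef, hadd_right C.uf, hsmul_right C.uf] at h1 h2
    have h3 : f v u₂ = 0 := by
      have : σ (δ - ε * γ) * f v u₂ = 0 := by
        rw [map_sub, map_mul]
        linear_combination h2 - σ γ * h1
      exact (mul_eq_zero.mp this).resolve_left ((map_ne_zero σ).mpr hD)
    rw [h3, mul_zero, add_zero] at h1
    have hperp : ∀ c, (∃ p q : F, c = p • u₁ + q • u₂) → f v c = 0 := by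
      rintro c ⟨p, q, rfl⟩
      rw [hadd_right C.uf, hsmul_right C.uf, hsmul_right C.uf, h1, h3, mul_zero, mul_zero,
        add_zero]
    rw [hm, Units.val_mul, Units.val_mul, ← mulVec_mulVec, ← mulVec_mulVec, ← hv, ht,
      Units.val_mul, ← mulVec_mulVec, refl_mulVec C.uf hc₂n, hperp _ hc₂u, mul_zero, zero_div,
      zero_smul, sub_zero, refl_mulVec C.uf hc₁n, hperp _ hc₁u, mul_zero, zero_div,
      zero_smul, sub_zero, hv, mulVec_inv_mulVec]
  have hreal := key C hM hN ha hbr ha0 haa hbb hba (mul_mem (mul_mem hgM htM) (inv_mem hgM))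
    (mul_mem (mul_mem hgi htsu.1) (inv_mem hgi)) hfix
  have hval : f a (m ◆ a) = f w (t ◆ w) := by
    rw [← hgw, hm, Units.val_mul, Units.val_mul, ← mulVec_mulVec, ← mulVec_mulVec,
      inv_mulVec_mulVec, hg']
  rw [hval] at hreal
  set γ₁ := f c₁ c₁
  set γ₂ := f c₂ c₂
  have hform : f w (t ◆ w) = -(2 * (f w c₁ * σ (f w c₁)) / γ₁)
      - 2 * (f w c₂ * σ (f w c₂)) / γ₂
      + 4 * (f c₁ c₂ * (f w c₁ * σ (f w c₂))) / (γ₁ * γ₂) := by
    rw [ht, Units.val_mul, ← mulVec_mulVec, refl_mulVec C.uf hc₂n, refl_mulVec C.uf hc₁n]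
    simp only [hsub_left C.uf, C.uf.smul_left, hsub_right C.uf, hsmul_right C.uf, map_div₀,
      map_mul, map_sub, map_ofNat, hww, fix C (C.rat c₁ c₁ hc₁ hc₁),
      fix C (C.rat c₂ c₂ hc₂ hc₂), symm C hc₁ hc₂, fix C (C.rat c₁ c₂ hc₁ hc₂), γ₁, γ₂]
    field_simp
    ring
  have e1 : f w c₁ = f u₁ c₁ + ε * f u₂ c₁ := by rw [hwdef, C.uf.add_left, C.uf.smul_left]
  have e2 : f w c₂ = f u₁ c₂ + ε * f u₂ c₂ := by rw [hwdef, C.uf.add_left, C.uf.smul_left]
  rw [hform, e1, e2] at hreal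
  simp only [map_add, map_sub, map_neg, map_div₀, map_mul, map_ofNat, C.skew,
    fix C (C.rat c₁ c₁ hc₁ hc₁), fix C (C.rat c₂ c₂ hc₂ hc₂), fix C (C.rat c₁ c₂ hc₁ hc₂),
    fix C (C.rat u₁ c₁ hu₁ hc₁), fix C (C.rat u₂ c₁ hu₂ hc₁), fix C (C.rat u₁ c₂ hu₁ hc₂),
    fix C (C.rat u₂ c₂ hu₂ hc₂), γ₁, γ₂] at hreal
  have h9 : 8 * ε * (f c₁ c₂ * (f u₁ c₁ * f u₂ c₂ - f u₂ c₁ * f u₁ c₂)) /
      (f c₁ c₁ * f c₂ c₂) = 0 := by linear_combination hreal
  rcases div_eq_zero_iff.mp h9 with h10 | h10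
  · exact mul_ne_zero (mul_ne_zero (mul_ne_zero (mul_ne_zero C.two C.two) C.two) C.eps0) him
      (by linear_combination h10)
  · exact mul_ne_zero hc₁n hc₂n h10

omit hN in
theorem orth_centre_all {g : GL ι F} (hgM : g ∈ M) (hgi : g ∈ isom f)
    (hg : g ∉ Geo.subfieldSubgroup F₀ P) : ∀ v, f v v = 0 → Centre σ f M v := by
  by_cases hN : NoTrans σ f F₀ P M
  · exfalso
    obtain ⟨a, ha, ha0, haa, hn⟩ := exists_nonrat_singular C (g := g⁻¹)
      (fun h => hg (by simpa using inv_mem h)) (inv_mem hgi)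
    exact no_nonrat C hM hN hgM hgi ha ha0 haa hn
  · simp only [NoTrans, not_forall, not_not] at hN
    obtain ⟨a, ha, ha0, hca⟩ := hN
    exact centre_all C hM ha ha0 hca

end Cfsg.Agent.SU4Geo98.Orth

namespace Cfsg.Agent.SU4Geo98

open Matrix Cfsg.Agent.MaxSub Cfsg.Agent.HermStab Cfsg.Agent.SubfieldTwo

/-- Clause 8 of S5783. -/
theorem orth_maximal {F : Type*} [Field F] [Fintype F] (q : ℕ) (hF : Fintype.card F = q ^ 2) :
    (Odd q → 5 ≤ q → ∀ (F₀ : Subfield F) (P : Matrix.GeneralLinearGroup (Fin 4) F), Fintype.card F = Nat.card F₀ ^ 2 → Cfsg.Geo.IsFormRationalStructure (Cfsg.hermForm 4 F q) F₀ 1 P → Cfsg.Geo.IsMaximalIn (Cfsg.GU 4 F q ⊓ Cfsg.Geo.specialLinear (Fin 4) F) (Cfsg.Geo.subfieldSubgroup F₀ P ⊓ (Cfsg.GU 4 F q ⊓ Cfsg.Geo.specialLinear (Fin 4) F))) := by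
  intro hodd h5 F₀ P hcard hP
  classical
  obtain ⟨σ, hσ, hf⟩ := HermStab.exists_setup (n := 4) hF
  have hq : Nat.card F₀ = q := Nat.pow_left_injective two_ne_zero (hcard.symm.trans hF)
  have hfix : ∀ a : F, a ∈ F₀ ↔ σ a = a := fun a => by
    haveI := Fintype.ofFinite F₀
    have hle : ∀ b ∈ F₀, σ b = b := fun b hb => by
      have h := congrArg Subtype.val (FiniteField.pow_card (⟨b, hb⟩ : F₀))
      rw [← Nat.card_eq_fintype_card, hq] at h
      rw [hσ]
      simpa using h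
    refine ⟨hle a, fun ha => ?_⟩
    let φ : F₀ → {x : F // x ^ q = x} := fun b => ⟨b, by rw [← hσ]; exact hle b b.2⟩
    have hinj : Function.Injective φ := fun b c h => by
      simpa [φ] using h
    obtain ⟨b, hb⟩ := (Nat.bijective_iff_injective_and_card φ).mpr
      ⟨hinj, by rw [hq, Unitary.card_fixed hF]⟩ |>.surjective ⟨a, by rw [← hσ]; exact ha⟩
    have hb' : (b : F) = a := congrArg Subtype.val hb
    exact hb' ▸ b.2
  have h2 : (2 : F) ≠ 0 := fun h => by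
    have := CharP.ringChar_of_prime_eq_zero (R := F) Nat.prime_two (by exact_mod_cast h)
    have hev : Even (Fintype.card F) := by
      rw [Nat.even_iff]; exact FiniteField.even_card_iff_char_two.mp this
    rw [hF, Nat.even_pow] at hev
    exact Nat.not_odd_iff_even.mpr hev.1 hodd
  obtain ⟨ε, hε0, hεs⟩ := exists_skew hf
  have hskew : σ ε = -ε := eq_neg_of_add_eq_zero_right hεs
  have hεne : σ ε ≠ ε := fun h => mul_ne_zero h2 hε0 (by linear_combination hεs - h)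
  have hd : IsIndexTwo F₀ σ ε := ⟨hfix, hf.involutive, hεne⟩
  have hrat : ∀ x y, Rat F₀ P x → Rat F₀ P y → Cfsg.hermForm 4 F q x y ∈ F₀ := fun x y hx hy => by
    obtain ⟨u, hu, rfl⟩ := rat_iff.mp hx
    obtain ⟨w, hw, rfl⟩ := rat_iff.mp hy
    simpa using hP u w hu hw
  have hbig : ∃ μ : F, μ ∈ F₀ ∧ μ ≠ 0 ∧ μ ^ 2 ≠ 1 := by
    haveI := Fintype.ofFinite F₀
    have h : ({0, 1, -1} : Finset F₀).card < (Finset.univ : Finset F₀).card := by
      have := Finset.card_le_three (a := (0 : F₀)) (b := 1) (c := -1)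
      rw [Finset.card_univ, ← Nat.card_eq_fintype_card, hq]
      omega
    obtain ⟨μ, -, hμ⟩ := Finset.exists_mem_notMem_of_card_lt_card h
    simp only [Finset.mem_insert, Finset.mem_singleton, not_or] at hμ
    refine ⟨μ, μ.2, fun h => hμ.1 (Subtype.ext h), fun h => ?_⟩
    rcases sq_eq_one_iff.mp h with h' | h'
    · exact hμ.2.1 (Subtype.ext h')
    · exact hμ.2.2 (Subtype.ext (by rw [h']; simp))
  have C : Orth.Ctx σ (Cfsg.hermForm 4 F q) F₀ P ε :=
    ⟨hf, hd, hrat, h2, by simp, hε0, hskew, hbig⟩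
  rw [← HermStab.su_eq]
  refine MaxSub.isMaximalIn_of inf_le_right ?_ fun M hHM hMG g hg hgH => ?_
  · -- a transvection at a rational singular vector
    obtain ⟨a, ha, ha0, haa, -⟩ := SubfieldOrth.exists_rat_singular hf hd hrat h2
      (![] : Fin 0 → Fin 4 → F) (fun i => i.elim0) (by simp)
    obtain ⟨c, hc0, hc⟩ := MaxSub.exists_skew hf
    refine ⟨MaxSub.ut (Cfsg.hermForm 4 F q) a c, HermStab.ut_mem_su hf haa hc, fun h => ?_⟩
    obtain ⟨l, hl, hlg⟩ := rat_of_mem h.1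
    obtain ⟨x, hx, -, hxa⟩ := SubfieldOrth.exists_rat_dual hf hd hrat
      (![] : Fin 0 → Fin 4 → F) (fun i => i.elim0) (y := a) (by simpa using ha0)
    have hla := hlg a ha
    rw [MaxSub.ut_mulVec hf haa, haa, mul_zero, zero_smul, add_zero] at hla
    have hr := hlg x hx
    rw [MaxSub.ut_mulVec hf haa] at hr
    have hlF : l ∈ F₀ := Orth.scal_real C ha ha0 hla
    have h3 := rat_sub hr (rat_smul hlF hx)
    rw [smul_add, add_sub_cancel_left, smul_smul] at h3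
    have h4 := Orth.scal_real C ha ha0 h3
    have h5 := mul_mem h4 (inv_mem (mul_mem hlF (hrat x a hx ha)))
    rw [show l * (c * Cfsg.hermForm 4 F q x a) * (l * Cfsg.hermForm 4 F q x a)⁻¹ = c by
      field_simp] at h5
    rw [(hfix c).mp h5] at hc
    exact hc0 ((mul_eq_zero.mp (by linear_combination hc : (2 : F) * c = 0)).resolve_left h2)
  · exact HermStab.le_of_centres hF hσ hf (by omega)
      (Orth.orth_centre_all C
        (fun k hk hkr => hHM ⟨mem_of_rat one_ne_zero (fun x hx => by rw [one_smul]; exact hkr x hx),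
          hk⟩) hg (hMG hg).1 fun h => hgH ⟨h, hMG hg⟩)

end Cfsg.Agent.SU4Geo98
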