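import Cfsg.Agent.MaxSub.SubfieldOrth

/-!
Tori from transvections and reflections of a hermitian form (helper98).
-/

set_option autoImplicit false
set_option linter.unusedSectionVars false

namespace Cfsg.Agent.SU4Geo98.Orth

open Matrix Cfsg.Agent.MaxSub Cfsg.Agent.HermStab

variable {ι : Type} [Fintype ι] [DecidableEq ι] {F : Type*} [Field F] [Finite F]
variable {σ : F ≃+* F} {f : (ι → F) → (ι → F) → F}

local notation:73 g:74 " ◆ " x:73 => (Units.val g) *ᵥ x

/-- The monomial element of the transvection groups at `a` and `e`. -/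
noncomputable def weyl (f : (ι → F) → (ι → F) → F) (a e : ι → F) (c : F) : GL ι F :=
  ut f a c * ut f e (-c⁻¹) * ut f a c

/-- `a ↦ μ a`, `e ↦ μ⁻¹ e`. -/
noncomputable def tor (f : (ι → F) → (ι → F) → F) (a e : ι → F) (c μ : F) : GL ι F :=
  weyl f a e (-(μ * c)) * weyl f a e c

open scoped Classical in
/-- The reflection in `c`. -/
noncomputable def refl (f : (ι → F) → (ι → F) → F) (c : ι → F) : GL ι F :=
  if h : (1 - vecMulVec ((2 / f c c) • c) (rep f c)) * (1 - vecMulVec ((2 / f c c) • c) (rep f c))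
      = (1 : Matrix ι ι F) then
    ⟨_, _, h, h⟩
  else 1

variable (hf : Geo.IsUnitaryForm σ f)
include hf

theorem weyl_mulVec {a e : ι → F} (ha : f a a = 0) (he : f e e = 0) (hea : f e a = 1)
    {c : F} (hc : c ≠ 0) (x : ι → F) :
    weyl f a e c ◆ x = x + (c * f x a - f x e) • a - (f x e / c + f x a) • e := by
  have hae : f a e = 1 := by rw [hf.herm, hea, map_one]
  rw [weyl, Units.val_mul, Units.val_mul, ← mulVec_mulVec, ← mulVec_mulVec, ut_mulVec hf ha,
    ut_mulVec hf he, ut_mulVec hf ha]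
  simp only [hf.add_left, hf.smul_left, ha, hea, hae]
  match_scalars <;> field_simp <;> ring

theorem tor_mulVec {a e : ι → F} (ha : f a a = 0) (he : f e e = 0) (hea : f e a = 1)
    {c μ : F} (hc : c ≠ 0) (hμ : μ ≠ 0) (x : ι → F) :
    tor f a e c μ ◆ x = x + ((μ - 1) * f x e) • a + ((μ⁻¹ - 1) * f x a) • e := by
  have hae : f a e = 1 := by rw [hf.herm, hea, map_one]
  rw [tor, Units.val_mul, ← mulVec_mulVec, weyl_mulVec hf ha he hea hc,
    weyl_mulVec hf ha he hea (neg_ne_zero.mpr (mul_ne_zero hμ hc))]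
  simp only [hf.add_left, hsub_left hf, hf.smul_left, ha, he, hea, hae]
  match_scalars <;> field_simp <;> ring

theorem skew_neg_inv {c : F} (hc : c + σ c = 0) : -c⁻¹ + σ (-c⁻¹) = 0 := by
  rw [map_neg, map_inv₀, eq_neg_of_add_eq_zero_right hc, inv_neg]
  ring

theorem skew_mul {c μ : F} (hc : c + σ c = 0) (hμ : σ μ = μ) :
    -(μ * c) + σ (-(μ * c)) = 0 := by
  rw [map_neg, map_mul, hμ]
  linear_combination (-μ) * hc

theorem tor_mem {M : Subgroup (GL ι F)} {a e : ι → F} (ha : Centre σ f M a) (he : Centre σ f M e)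
    {c μ : F} (hc : c + σ c = 0) (hμ : σ μ = μ) : tor f a e c μ ∈ M := by
  have h1 := skew_mul hf hc hμ
  unfold tor weyl
  exact mul_mem (mul_mem (mul_mem (ha.2 _ h1) (he.2 _ (skew_neg_inv hf h1))) (ha.2 _ h1))
    (mul_mem (mul_mem (ha.2 _ hc) (he.2 _ (skew_neg_inv hf hc))) (ha.2 _ hc))

theorem tor_mem_su {a e : ι → F} (ha : f a a = 0) (he : f e e = 0) {c μ : F} (hc : c + σ c = 0)
    (hμ : σ μ = μ) : tor f a e c μ ∈ su f :=
  tor_mem hf (M := su f) ⟨ha, fun _ h => ut_mem_su hf ha h⟩ ⟨he, fun _ h => ut_mem_su hf he h⟩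
    hc hμ

/-- Two tori with a common fixed line differ by an element of its radical. -/
theorem tor_eq_qe {a e e' : ι → F} (ha : f a a = 0) (he : f e e = 0) (he' : f e' e' = 0)
    (hea : f e a = 1) (hea' : f e' a = 1) {c μ : F} (hc : c ≠ 0) (hμ : μ ≠ 0) (hμσ : σ μ = μ) :
    tor f a e' c μ =
      qe f a ((μ - 1) • (e - e')) ((μ - 1) ^ 2 * f e e') * tor f a e c μ := by
  have hz : f ((μ - 1) • (e - e')) a = 0 := by
    rw [hf.smul_left, hsub_left hf, hea, hea', sub_self, mul_zero]
  have hae : f a e = 1 := by rw [hf.herm, hea, map_one]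
  have hae' : f a e' = 1 := by rw [hf.herm, hea', map_one]
  refine gl_ext fun x => ?_
  rw [Units.val_mul, ← mulVec_mulVec, qe_mulVec hf ha hz, tor_mulVec hf ha he' hea' hc hμ,
    tor_mulVec hf ha he hea hc hμ]
  simp only [hf.add_left, hf.smul_left, hsmul_right hf, hsub_right hf, ha, he, hea, hae, hea',
    hae', map_sub, map_one, hμσ]
  match_scalars <;> field_simp <;> ring

theorem qe_smul {a z : ι → F} (ha : f a a = 0) (hz : f z a = 0) (r b : F) :
    qe f (r • a) z b = qe f a (σ r • z) (r * σ r * b) := by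
  refine gl_ext fun x => ?_
  rw [qe_mulVec hf (by rw [hf.smul_left, hsmul_right hf, ha]; simp)
      (by rw [hsmul_right hf, hz, mul_zero]),
    qe_mulVec hf ha (by rw [hf.smul_left, hz, mul_zero])]
  simp only [hsmul_right hf, hf.involutive]
  match_scalars <;> ring

theorem refl_coe {c : ι → F} (hc : f c c ≠ 0) :
    (refl f c : Matrix ι ι F) = 1 - vecMulVec ((2 / f c c) • c) (rep f c) := by
  have h : (1 - vecMulVec ((2 / f c c) • c) (rep f c)) *
      (1 - vecMulVec ((2 / f c c) • c) (rep f c)) = (1 : Matrix ι ι F) := by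
    have h1 : rep f c ⬝ᵥ (2 / f c c) • c = 2 := by
      rw [dotProduct_smul, hrep_dot hf, smul_eq_mul, div_mul_cancel₀ _ hc]
    rw [sub_mul, one_mul, mul_sub, mul_one, vecMulVec_mul_vecMulVec, h1,
      two_smul, vecMulVec_add]
    abel
  simp only [refl, dif_pos h]

theorem refl_mulVec {c : ι → F} (hc : f c c ≠ 0) (x : ι → F) :
    refl f c ◆ x = x - (2 * f x c / f c c) • c := by
  rw [refl_coe hf hc, sub_mulVec, one_mulVec, vecMulVec_mulVec, hrep_dot hf, op_smul_eq_smul,
    smul_smul]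
  congr 2
  ring

theorem refl_det {c : ι → F} (hc : f c c ≠ 0) : (refl f c : Matrix ι ι F).det = -1 := by
  rw [refl_coe hf hc, sub_eq_add_neg, ← neg_vecMulVec, vecMulVec_eq Unit,
    det_one_add_replicateCol_mul_replicateRow, dotProduct_neg, dotProduct_smul, hrep_dot hf,
    smul_eq_mul, div_mul_cancel₀ _ hc]
  norm_num

theorem refl_mem_isom {c : ι → F} (hc : f c c ≠ 0) : refl f c ∈ isom f := by
  intro x y
  show f (refl f c ◆ x) (refl f c ◆ y) = f x y
  have hcc : σ (f c c) = f c c := (hf.herm c c).symm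
  rw [refl_mulVec hf hc, refl_mulVec hf hc]
  simp only [hsub_left hf, hf.smul_left, hsub_right hf, hsmul_right hf, map_div₀, map_mul,
    map_ofNat, hcc, ← hf.herm]
  field_simp
  ring

theorem refl_pair_mem {c d : ι → F} (hc : f c c ≠ 0) (hd : f d d ≠ 0) :
    refl f c * refl f d ∈ su f := by
  refine ⟨mul_mem (refl_mem_isom hf hc) (refl_mem_isom hf hd), ?_⟩
  show refl f c * refl f d ∈ (Matrix.GeneralLinearGroup.det).ker
  rw [MonoidHom.mem_ker, Units.ext_iff, Matrix.GeneralLinearGroup.val_det_apply, Units.val_mul,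
    det_mul, refl_det hf hc, refl_det hf hd]
  norm_num

theorem neg_refl_pair_mem (h4 : Even (Fintype.card ι)) {c d : ι → F} (hc : f c c ≠ 0)
    (hd : f d d ≠ 0) : -(refl f c * refl f d) ∈ su f := by
  obtain ⟨h1, -⟩ := refl_pair_mem hf hc hd
  refine ⟨fun x y => ?_, ?_⟩
  · show f ((-(refl f c * refl f d)) ◆ x) ((-(refl f c * refl f d)) ◆ y) = f x y
    rw [Units.val_neg, neg_mulVec, neg_mulVec, ← neg_one_smul F, ← neg_one_smul F (_ *ᵥ y),
      hf.smul_left, hsmul_right hf, map_neg, map_one, mem_isom.mp h1]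
    ring
  show -(refl f c * refl f d) ∈ (Matrix.GeneralLinearGroup.det).ker
  rw [MonoidHom.mem_ker, Units.ext_iff, Matrix.GeneralLinearGroup.val_det_apply, Units.val_neg,
    det_neg, h4.neg_one_pow, Units.val_mul, det_mul, refl_det hf hc, refl_det hf hd]
  norm_num

end Cfsg.Agent.SU4Geo98.Orth
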