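import Cfsg.Agent.SU4Geo98.Orth.Elem
import Cfsg.Agent.SU4Geo98.Radical

/-!
Rational points of the orthogonal subfield structure in dimension four, and generation by the
transvections at one rational singular point (helper98).
-/

set_option autoImplicit false
set_option linter.unusedSectionVars false

namespace Cfsg.Agent.SU4Geo98.Orth

open Matrix Cfsg.Agent.MaxSub Cfsg.Agent.HermStab Cfsg.Agent.SubfieldTwo
open Cfsg.Agent.SubfieldOrth (InA)

variable {ι : Type} [Fintype ι] [DecidableEq ι] {F : Type*} [Field F] [Finite F]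
variable {σ : F ≃+* F} {f : (ι → F) → (ι → F) → F} {F₀ : Subfield F} {P : GL ι F} {ε : F}

local notation:73 g:74 " ◆ " x:73 => (Units.val g) *ᵥ x

/-- The data of the orthogonal subfield group in dimension four. -/
structure Ctx (σ : F ≃+* F) (f : (ι → F) → (ι → F) → F) (F₀ : Subfield F) (P : GL ι F) (ε : F) :
    Prop where
  uf : Geo.IsUnitaryForm σ f
  idx : IsIndexTwo F₀ σ ε
  rat : ∀ x y, Rat F₀ P x → Rat F₀ P y → f x y ∈ F₀
  two : (2 : F) ≠ 0
  card : Fintype.card ι = 4
  eps0 : ε ≠ 0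
  skew : σ ε = -ε
  big : ∃ μ : F, μ ∈ F₀ ∧ μ ≠ 0 ∧ μ ^ 2 ≠ 1

/-- `M` contains the rational isometries of determinant one. -/
def HasH (f : (ι → F) → (ι → F) → F) (F₀ : Subfield F) (P : GL ι F) (M : Subgroup (GL ι F)) : Prop :=
  ∀ k ∈ su f, (∀ x, Rat F₀ P x → Rat F₀ P (k ◆ x)) → k ∈ M

variable {M : Subgroup (GL ι F)} (C : Ctx σ f F₀ P ε)
include C

theorem symm {x y : ι → F} (hx : Rat F₀ P x) (hy : Rat F₀ P y) : f y x = f x y :=
  SubfieldOrth.symm_rat C.uf C.idx C.rat hx hy

theorem fix {a : F} (h : a ∈ F₀) : σ a = a := (C.idx.mem_iff a).mp h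

theorem eq_zero_of_perp {p : ι → F} (h : ∀ x, Rat F₀ P x → f x p = 0) : p = 0 := by
  by_contra hp
  obtain ⟨z, hz, -⟩ := exists_dual C.uf (U := ⊥) (a := p) (by simpa using hp)
  exact one_ne_zero (hz.symm.trans (eq_zero_of_rat (F₀ := F₀) (P := P) (hl C.uf p) h z))

theorem exists_nonorth {y : ι → F} (hy : Rat F₀ P y) (hy0 : y ≠ 0) :
    ∃ p, Rat F₀ P p ∧ f p p = 0 ∧ f p y ≠ 0 := by
  obtain ⟨r, hr, hr0, hrr, -⟩ := SubfieldOrth.exists_rat_singular C.uf C.idx C.rat C.two
    (![] : Fin 0 → ι → F) (fun i => i.elim0) (by have := C.card; omega)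
  obtain ⟨d₁, h1, -, h1y⟩ := SubfieldOrth.exists_rat_dual C.uf C.idx C.rat ![] (fun i => i.elim0)
    (y := y) (by simpa using hy0)
  obtain ⟨d₂, h2', -, h2r⟩ := SubfieldOrth.exists_rat_dual C.uf C.idx C.rat ![] (fun i => i.elim0)
    (y := r) (by simpa using hr0)
  by_cases hry : f r y = 0
  · obtain ⟨d, hd, -, hdy, hdr⟩ := SubfieldOrth.exists_sum_ne C.uf C.idx C.rat (S := 0) h1
      (hzero_right C.uf _) h1y h2' (hzero_right C.uf _) h2r
    obtain ⟨t, -, hp, hpp⟩ := SubfieldOrth.singular_shift C.uf C.idx C.rat C.two hd hr hrr hdr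
    exact ⟨_, hp, hpp, by rwa [C.uf.add_left, C.uf.smul_left, hry, mul_zero, add_zero]⟩
  · exact ⟨r, hr, hrr, hry⟩

theorem exists_mate {a : ι → F} (ha : Rat F₀ P a) (ha0 : a ≠ 0) :
    ∃ e, Rat F₀ P e ∧ f e e = 0 ∧ f e a = 1 := by
  obtain ⟨p, hp, hpp, hpa⟩ := exists_nonorth C ha ha0
  refine ⟨(f p a)⁻¹ • p, rat_smul (inv_mem (C.rat p a hp ha)) hp, ?_, ?_⟩
  · rw [C.uf.smul_left, hsmul_right C.uf, hpp]; simp
  · rw [C.uf.smul_left, inv_mul_cancel₀ hpa]

theorem nonsing_of_dual {k : ℕ} (p : Fin k → ι → F) (hp : ∀ i, Rat F₀ P (p i)) {x : ι → F}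
    (hx : Rat F₀ P x) (hxp : ∀ i, f x (p i) = 0) (hxn : x ∉ Submodule.span F (Set.range p)) :
    ∃ z, Rat F₀ P z ∧ f z z ≠ 0 ∧ ∀ i, f z (p i) = 0 := by
  by_cases hxx : f x x = 0
  · obtain ⟨d, hd, hdp, hdx⟩ := SubfieldOrth.exists_rat_dual C.uf C.idx C.rat p hp hxn
    by_cases hdd : f d d = 0
    · refine ⟨x + d, rat_add hx hd, ?_, fun i => by
        rw [C.uf.add_left, hxp, hdp, add_zero]⟩
      rw [C.uf.add_left, hadd_right C.uf, hadd_right C.uf, hxx, hdd, symm C hd hx]
      intro h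
      exact hdx ((mul_eq_zero.mp (show 2 * f d x = 0 by linear_combination h)).resolve_left C.two)
    · exact ⟨d, hd, hdd, hdp⟩
  · exact ⟨x, hx, hxx, hxp⟩

theorem exists_perp_two {a e : ι → F} (ha : Rat F₀ P a) (he : Rat F₀ P e) (haa : f a a = 0)
    (hee : f e e = 0) (hea : f e a = 1) :
    ∃ z, Rat F₀ P z ∧ f z z ≠ 0 ∧ f z a = 0 ∧ f z e = 0 := by
  obtain ⟨x, hx, hx0, hxp⟩ := SubfieldOrth.exists_rat_orth C.uf C.idx C.rat ![a, e]
    (by intro i; fin_cases i <;> simpa) (by rw [C.card]; norm_num)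
  have hxa : f x a = 0 := hxp 0
  have hxe : f x e = 0 := hxp 1
  obtain ⟨z, hz, hzz, hzp⟩ := nonsing_of_dual C ![a, e] (by intro i; fin_cases i <;> simpa) hx hxp
    (fun hm => hx0 (by
      simp only [Matrix.range_cons, Matrix.range_empty, Set.union_empty, Set.singleton_union] at hm
      obtain ⟨s, t, rfl⟩ := Submodule.mem_span_pair.mp hm
      rw [C.uf.add_left, C.uf.smul_left, C.uf.smul_left, haa, hea, mul_zero, zero_add, mul_one]
        at hxa
      rw [C.uf.add_left, C.uf.smul_left, C.uf.smul_left, hee, ← symm C ha he, hea, mul_zero,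
        add_zero, mul_one] at hxe
      simp [hxa, hxe]))
  exact ⟨z, hz, hzz, hzp 0, hzp 1⟩

theorem exists_perp_three {a e w : ι → F} (ha : Rat F₀ P a) (he : Rat F₀ P e) (hw : Rat F₀ P w)
    (haa : f a a = 0) (hee : f e e = 0) (hea : f e a = 1) (hwa : f w a = 0) (hwe : f w e = 0)
    (hww : f w w ≠ 0) :
    ∃ z, Rat F₀ P z ∧ f z z ≠ 0 ∧ f z a = 0 ∧ f z e = 0 ∧ f z w = 0 := by
  obtain ⟨x, hx, hx0, hxp⟩ := SubfieldOrth.exists_rat_orth C.uf C.idx C.rat ![w, a, e]
    (by intro i; fin_cases i <;> simpa) (by rw [C.card]; norm_num)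
  have hxw : f x w = 0 := hxp 0
  have hxa : f x a = 0 := hxp 1
  have hxe : f x e = 0 := hxp 2
  obtain ⟨z, hz, hzz, hzp⟩ := nonsing_of_dual C ![w, a, e] (by intro i; fin_cases i <;> simpa) hx hxp
    (fun hm => hx0 (by
      simp only [Matrix.range_cons, Matrix.range_empty, Set.union_empty, Set.singleton_union] at hm
      obtain ⟨r, y, hy, rfl⟩ := Submodule.mem_span_insert.mp hm
      obtain ⟨s, t, rfl⟩ := Submodule.mem_span_pair.mp hy
      have h1 : f a e = 1 := by rw [← symm C ha he, hea]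
      have haw : f a w = 0 := hswap_zero C.uf hwa
      have hew : f e w = 0 := hswap_zero C.uf hwe
      simp only [C.uf.add_left, C.uf.smul_left, haa, hea, hwa, haw, hew, h1, hee, hwe, mul_zero,
        zero_add, add_zero, mul_one] at hxw hxa hxe
      simp [hxa, hxe, (mul_eq_zero.mp hxw).resolve_right hww]))
  exact ⟨z, hz, hzz, hzp 1, hzp 2, hzp 0⟩

theorem rat_decomp {a e : ι → F} (ha : Rat F₀ P a) (he : Rat F₀ P e) (haa : f a a = 0)
    (hee : f e e = 0) (hea : f e a = 1) {x : ι → F} (hx : Rat F₀ P x) :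
    Rat F₀ P (x - f x e • a - f x a • e) ∧ f (x - f x e • a - f x a • e) a = 0 ∧
      f (x - f x e • a - f x a • e) e = 0 := by
  refine ⟨rat_sub (rat_sub hx (rat_smul (C.rat x e hx he) ha)) (rat_smul (C.rat x a hx ha) he),
    ?_, ?_⟩
  · simp [hsub_left C.uf, C.uf.smul_left, haa, hea]
  · simp [hsub_left C.uf, C.uf.smul_left, hee, show f a e = 1 by rw [← symm C ha he, hea]]

theorem exists_norm_perp {a e : ι → F} (ha : Rat F₀ P a) (he : Rat F₀ P e) (haa : f a a = 0)
    (hee : f e e = 0) (hea : f e a = 1) {r : F} (hr : r ∈ F₀) :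
    ∃ z, Rat F₀ P z ∧ f z z = r ∧ f z a = 0 ∧ f z e = 0 := by
  haveI := Fintype.ofFinite F₀
  obtain ⟨x, hx, hxx, hxa, hxe⟩ := exists_perp_two C ha he haa hee hea
  obtain ⟨y, hy, hyy, hya, hye, hyx⟩ := exists_perp_three C ha he hx haa hee hea hxa hxe hxx
  obtain ⟨s, t, hst⟩ := Reflections.exists_sum_sq (F := F₀)
    (a := ⟨f x x, C.rat x x hx hx⟩) (b := ⟨f y y, C.rat y y hy hy⟩)
    (fun h => C.two (by simpa [map_ofNat] using congrArg F₀.subtype h))
    (fun h => hxx (congrArg Subtype.val h)) (fun h => hyy (congrArg Subtype.val h))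
    (⟨r, hr⟩ : F₀)
  have hst' : f x x * (s : F) ^ 2 + f y y * (t : F) ^ 2 = r := by
    simpa using congrArg Subtype.val hst
  refine ⟨(s : F) • x + (t : F) • y, rat_add (rat_smul s.2 hx) (rat_smul t.2 hy), ?_, ?_, ?_⟩
  · simp only [C.uf.add_left, C.uf.smul_left, hadd_right C.uf, hsmul_right C.uf, fix C s.2,
      fix C t.2, hyx, hswap_zero C.uf hyx]
    linear_combination hst'
  · rw [C.uf.add_left, C.uf.smul_left, C.uf.smul_left, hxa, hya, mul_zero, mul_zero, add_zero]
  · rw [C.uf.add_left, C.uf.smul_left, C.uf.smul_left, hxe, hye, mul_zero, mul_zero, add_zero]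

theorem exists_third {a v : ι → F} (ha : Rat F₀ P a) (haa : f a a = 0) (ha0 : a ≠ 0)
    (hv : Rat F₀ P v) (hvv : f v v = 0) (hv0 : v ≠ 0) :
    ∃ e, Rat F₀ P e ∧ f e e = 0 ∧ f e a ≠ 0 ∧ f e v ≠ 0 := by
  by_cases hav : f a v = 0
  · obtain ⟨d₁, h1, -, h1a⟩ := SubfieldOrth.exists_rat_dual C.uf C.idx C.rat ![] (fun i => i.elim0)
      (y := a) (by simpa using ha0)
    obtain ⟨d₂, h2', -, h2v⟩ := SubfieldOrth.exists_rat_dual C.uf C.idx C.rat ![] (fun i => i.elim0)
      (y := v) (by simpa using hv0)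
    obtain ⟨d, hd, -, hda, hdv⟩ := SubfieldOrth.exists_sum_ne C.uf C.idx C.rat (S := 0) h1
      (hzero_right C.uf _) h1a h2' (hzero_right C.uf _) h2v
    obtain ⟨t, -, he, hee⟩ := SubfieldOrth.singular_shift C.uf C.idx C.rat C.two hd ha haa hda
    exact ⟨_, he, hee, by rwa [C.uf.add_left, C.uf.smul_left, haa, mul_zero, add_zero],
      by rwa [C.uf.add_left, C.uf.smul_left, hav, mul_zero, add_zero]⟩
  · have hr := C.rat a v ha hv
    set e' := (f a v)⁻¹ • v with he'
    have her : Rat F₀ P e' := rat_smul (inv_mem hr) hv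
    have he'e : f e' e' = 0 := by rw [he', C.uf.smul_left, hsmul_right C.uf, hvv]; simp
    have he'a : f e' a = 1 := by
      rw [he', C.uf.smul_left, symm C ha hv, inv_mul_cancel₀ hav]
    have hae' : f a e' = 1 := by rw [← symm C ha her, he'a]
    obtain ⟨z, hz, hzz, hza, hze⟩ := exists_perp_two C ha her haa he'e he'a
    have hzv : f z v = 0 := by
      have : v = f a v • e' := by rw [he', smul_smul, mul_inv_cancel₀ hav, one_smul]
      rw [this, hsmul_right C.uf, hze, mul_zero]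
    set s := -f z z / 2 with hs
    have hsF : s ∈ F₀ := div_mem (neg_mem (C.rat z z hz hz)) (ofNat_mem F₀ 2)
    refine ⟨a + s • e' + z, rat_add (rat_add ha (rat_smul hsF her)) hz, ?_, ?_, ?_⟩
    · simp only [C.uf.add_left, C.uf.smul_left, hadd_right C.uf, hsmul_right C.uf, haa, he'e, he'a,
        hae', hza, hze, hswap_zero C.uf hza, hswap_zero C.uf hze, fix C hsF]
      rw [hs]; field_simp [C.two]; ring
    · simp only [C.uf.add_left, C.uf.smul_left, haa, he'a, hza, mul_one, zero_add, add_zero]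
      exact div_ne_zero (neg_ne_zero.mpr hzz) C.two
    · rw [C.uf.add_left, C.uf.add_left, C.uf.smul_left, hzv, add_zero, he', C.uf.smul_left, hvv,
        mul_zero, mul_zero, add_zero]
      exact hav

variable (hM : HasH f F₀ P M)
include hM

theorem qe_mem {a b : ι → F} (ha : Rat F₀ P a) (hb : Rat F₀ P b) (haa : f a a = 0)
    (hba : f b a = 0) : qe f a b (-f b b / 2) ∈ M := by
  refine hM _ (qe_mem_su C.uf haa hba
    (SubfieldOrth.half_trace C.uf C.idx C.rat hb C.two)) fun x hx => ?_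
  rw [qe_mulVec C.uf haa hba]
  exact rat_add (rat_sub (rat_add hx (rat_smul (C.rat x a hx ha) hb))
    (rat_smul (C.rat x b hx hb) ha))
    (rat_smul (mul_mem (div_mem (neg_mem (C.rat b b hb hb)) (ofNat_mem F₀ 2)) (C.rat x a hx ha)) ha)

theorem inA_rat {a b : ι → F} (ha : Rat F₀ P a) (haa : f a a = 0) (hb : Rat F₀ P b)
    (hba : f b a = 0) : InA σ f M a b :=
  ⟨hba, _, SubfieldOrth.half_trace C.uf C.idx C.rat hb C.two, qe_mem C hM ha hb haa hba⟩

theorem tor_mem_rat {a e : ι → F} (ha : Rat F₀ P a) (he : Rat F₀ P e) (haa : f a a = 0)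
    (hee : f e e = 0) (hea : f e a = 1) {μ : F} (hμ : μ ∈ F₀) (hμ0 : μ ≠ 0) :
    tor f a e ε μ ∈ M := by
  have hc : ε + σ ε = 0 := by rw [C.skew]; ring
  refine hM _ (tor_mem_su C.uf haa hee hc (fix C hμ)) fun x hx => ?_
  rw [tor_mulVec C.uf haa hee hea C.eps0 hμ0]
  exact rat_add (rat_add hx (rat_smul (mul_mem (sub_mem hμ (one_mem F₀)) (C.rat x e hx he)) ha))
    (rat_smul (mul_mem (sub_mem (inv_mem hμ) (one_mem F₀)) (C.rat x a hx ha)) he)

theorem centre_step {a v e : ι → F} (ha : Rat F₀ P a) (hv : Rat F₀ P v) (he : Rat F₀ P e)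
    (hee : f e e = 0) (hea : f e a ≠ 0) (hvv : f v v = 0) (hev : f e v ≠ 0)
    (hc : Centre σ f M a) : Centre σ f M v := by
  have hae : f a e ≠ 0 := hswap_ne_zero C.uf hea
  have hve : f v e ≠ 0 := hswap_ne_zero C.uf hev
  set s := f v e with hs
  have hsF : s ∈ F₀ := C.rat v e hv he
  set y := (s / f a e) • a with hy
  have hyr : Rat F₀ P y := rat_smul (div_mem hsF (C.rat a e ha he)) ha
  have hye : f y e = s := by rw [hy, C.uf.smul_left, div_mul_cancel₀ _ hae]
  set w := s⁻¹ • (v - y) with hw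
  have hwr : Rat F₀ P w := rat_smul (inv_mem hsF) (rat_sub hv hyr)
  have hwe : f w e = 0 := by
    rw [hw, C.uf.smul_left, hsub_left C.uf, hye, ← hs, sub_self, mul_zero]
  have hb := SubfieldOrth.half_trace C.uf C.idx C.rat hwr C.two
  have hbM := qe_mem C hM he hwr hee hwe
  set b := -f w w / 2 with hbdef
  have hbF : b ∈ F₀ := div_mem (neg_mem (C.rat w w hwr hwr)) (ofNat_mem F₀ 2)
  have h1 := centre_map C.uf (centre_smul C.uf hc (s / f a e)) hbM (qe_mem_su C.uf hee hwe hb).1
  set δ := b * s - f y w with hδ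
  have hδF : σ δ = δ := fix C (sub_mem (mul_mem hbF hsF) (C.rat y w hyr hwr))
  have himg : qe f e w b ◆ y = v + δ • e := by
    rw [qe_mulVec C.uf hee hwe, hye, hδ, hw, smul_smul, mul_inv_cancel₀ hve, one_smul]
    module
  rw [← hy, himg] at h1
  have h3 := h1.1
  simp only [C.uf.add_left, C.uf.smul_left, hadd_right C.uf, hsmul_right C.uf, hee, hvv, hδF,
    symm C hv he, ← hs] at h3
  have h4 : 2 * s * δ = 0 := by linear_combination h3
  rwa [(mul_eq_zero.mp h4).resolve_left (mul_ne_zero C.two hve), zero_smul, add_zero] at h1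

theorem centre_all {a : ι → F} (ha : Rat F₀ P a) (ha0 : a ≠ 0) (hca : Centre σ f M a) :
    ∀ v, f v v = 0 → Centre σ f M v := by
  have haa := hca.1
  have hR : ∀ v, Rat F₀ P v → f v v = 0 → Centre σ f M v := by
    intro v hv hvv
    by_cases hv0 : v = 0
    · rw [hv0]; exact centre_zero C.uf
    obtain ⟨e, he, hee, hea, hev⟩ := exists_third C ha haa ha0 hv hvv hv0
    exact centre_step C hM ha hv he hee hea hvv hev hca
  obtain ⟨e, he, hee, hea⟩ := exists_mate C ha ha0
  have hae : f a e = 1 := by rw [← symm C ha he, hea]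
  have hec := hR e he hee
  have hmul : ∀ r : F, InA σ f M a (r • a) := by
    intro r
    have hra : f (r • a) a = 0 := by rw [C.uf.smul_left, haa, mul_zero]
    refine ⟨hra, 0, by rw [C.uf.smul_left, hsmul_right C.uf, haa]; simp, ?_⟩
    have : qe f a (r • a) 0 = ut f a (r - σ r) := gl_ext fun x => by
      rw [qe_mulVec C.uf haa hra, ut_mulVec C.uf haa, hsmul_right C.uf]
      module
    rw [this]
    exact hca.2 _ (by rw [map_sub, C.uf.involutive]; ring)
  have hns : ∀ b, Rat F₀ P b → f b a = 0 → f b e = 0 → f b b ≠ 0 → ∀ r : F,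
      InA σ f M a (r • b) := by
    intro b hb hba hbe hbb r
    set t := -f b b / 2 with ht
    have htF : t ∈ F₀ := div_mem (neg_mem (C.rat b b hb hb)) (ofNat_mem F₀ 2)
    have ht0 : t ≠ 0 := div_ne_zero (neg_ne_zero.mpr hbb) C.two
    have hc : ε + σ ε = 0 := by rw [C.skew]; ring
    set v := e + b + t • a with hv
    have hvr : Rat F₀ P v := rat_add (rat_add he hb) (rat_smul htF ha)
    have hvv : f v v = 0 := by
      simp only [hv, C.uf.add_left, C.uf.smul_left, hadd_right C.uf, hsmul_right C.uf, haa, hee,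
        hea, hae, hba, hbe, hswap_zero C.uf hba, hswap_zero C.uf hbe, fix C htF]
      rw [ht]; field_simp [C.two]; ring
    have hve : f v e = t := by simp [hv, C.uf.add_left, C.uf.smul_left, hee, hbe, hae]
    have hva : f v a = 1 := by simp [hv, C.uf.add_left, C.uf.smul_left, haa, hba, hea]
    have hc2 := centre_move C.uf hec (hR v hvr hvv) hc
    rw [hve] at hc2
    have hn0 : 1 + ε * t ≠ 0 := fun h => by
      have h1 := congrArg σ h
      rw [map_add, map_one, map_mul, C.skew, fix C htF, map_zero] at h1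
      exact C.two (by linear_combination h + h1)
    set ρ := (1 + ε * t)⁻¹ with hρ
    have hρ1 : ρ * (1 + ε * t) = 1 := inv_mul_cancel₀ hn0
    have hρn : σ ρ ≠ ρ := fun h => by
      rw [hρ, map_inv₀, _root_.inv_inj, map_add, map_one, map_mul, C.skew, fix C htF] at h
      exact mul_ne_zero C.two (mul_ne_zero C.eps0 ht0) (by linear_combination -h)
    set e' := ρ • (v + (ε * t) • e) with he'
    have he'c : Centre σ f M e' := centre_smul C.uf hc2 ρ
    have he'a : f e' a = 1 := by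
      rw [he', C.uf.smul_left, C.uf.add_left, C.uf.smul_left, hva, hea, mul_one, hρ1]
    have hμ : σ (2 : F) = 2 := map_ofNat σ 2
    have hD := mul_mem (tor_mem C.uf hca he'c (c := ε) hc hμ)
      (inv_mem (tor_mem C.uf hca hec (c := ε) hc hμ))
    rw [tor_eq_qe C.uf haa hee he'c.1 hea he'a C.eps0 C.two hμ, mul_inv_cancel_right,
      show ((2 : F) - 1) = 1 by ring, one_smul, one_pow, one_mul] at hD
    have hee'a : f (e - e') a = 0 := by rw [hsub_left C.uf, hea, he'a, sub_self]
    have h5 : InA σ f M a (e - e') := by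
      refine ⟨hee'a, f e e', ?_, hD⟩
      rw [hsub_left C.uf, hsub_right C.uf, hsub_right C.uf, hee, he'c.1, ← C.uf.herm]
      ring
    have h6 : InA σ f M a (ρ • b) := by
      have h7 := SubfieldOrth.inA_neg C.uf haa
        (SubfieldOrth.inA_add C.uf haa h5 (hmul (ρ * t)))
      convert! h7 using 1
      rw [he', hv]
      match_scalars <;> first
        | ring1
        | linear_combination hρ1
        | linear_combination -hρ1
    have hd' : IsIndexTwo F₀ σ ρ := ⟨C.idx.mem_iff, C.idx.invol, hρn⟩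
    obtain ⟨s, hs, u, hu, rfl⟩ := exists_split hd' r
    rw [add_smul]
    refine SubfieldOrth.inA_add C.uf haa (inA_rat C hM ha haa (rat_smul hs hb)
      (by rw [C.uf.smul_left, hba, mul_zero])) ?_
    -- scale `ρ • b` by the rational `u`
    by_cases hu0 : u = 0
    · rw [hu0, mul_zero, zero_smul]
      simpa using hmul 0
    obtain ⟨hz, β, hβ, hβM⟩ := h6
    have hk : tor f a e ε u ∈ M := tor_mem C.uf hca hec hc (fix C hu)
    have hki := (tor_mem_su C.uf haa hee hc (fix C hu)).1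
    have h8 := mul_mem (mul_mem hk hβM) (inv_mem hk)
    rw [SubfieldOrth.qe_conj C.uf haa hz β hki, tor_mulVec C.uf haa hee hea C.eps0 hu0,
      tor_mulVec C.uf haa hee hea C.eps0 hu0] at h8
    simp only [C.uf.smul_left, haa, hae, hba, hbe, mul_zero, zero_smul, add_zero, mul_one] at h8
    rw [show a + (u - 1) • a = u • a by module, qe_smul C.uf haa hz, fix C hu, smul_smul] at h8
    rw [mul_comm ρ u]
    refine ⟨by rw [C.uf.smul_left, hba, mul_zero], u * u * β, ?_, h8⟩
    rw [C.uf.smul_left, hsmul_right C.uf] at hβ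
    rw [C.uf.smul_left, hsmul_right C.uf, map_mul, map_mul, map_mul, fix C hu]
    linear_combination u * u * hβ
  have hperp : ∀ b, Rat F₀ P b → f b a = 0 → f b e = 0 → ∀ r : F, InA σ f M a (r • b) := by
    intro b hb hba hbe r
    by_cases hbb : f b b = 0
    · obtain ⟨z, hz, hzz, hza, hze⟩ := exists_perp_two C ha he haa hee hea
      have key : ∀ z, Rat F₀ P z → f z z ≠ 0 → f z a = 0 → f z e = 0 → f (b + z) (b + z) ≠ 0 →
          InA σ f M a (r • b) := fun z hz hzz hza hze hs => by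
        have h := SubfieldOrth.inA_sub C.uf haa
          (hns _ (rat_add hb hz) (by rw [C.uf.add_left, hba, hza, add_zero])
            (by rw [C.uf.add_left, hbe, hze, add_zero]) hs r) (hns z hz hza hze hzz r)
        rwa [smul_add, add_sub_cancel_right] at h
      by_cases hs : f (b + z) (b + z) = 0
      · have hm : (-1 : F) ∈ F₀ := neg_mem (one_mem F₀)
        refine key ((-1 : F) • z) (rat_smul hm hz) ?_ ?_ ?_ ?_
        · rw [C.uf.smul_left, hsmul_right C.uf, map_neg, map_one]; simpa using hzz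
        · rw [C.uf.smul_left, hza, mul_zero]
        · rw [C.uf.smul_left, hze, mul_zero]
        · intro h
          simp only [C.uf.add_left, C.uf.smul_left, hadd_right C.uf, hsmul_right C.uf, map_neg,
            map_one, hbb] at hs h
          exact mul_ne_zero C.two hzz (by linear_combination hs + h)
      · exact key z hz hzz hza hze hs
    · exact hns b hb hba hbe hbb r
  have hratA : ∀ x, Rat F₀ P x → f x a = 0 → ∀ r : F, InA σ f M a (r • x) := by
    intro x hx hxa r
    obtain ⟨hbr, hba, hbe⟩ := rat_decomp C ha he haa hee hea hx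
    have h := SubfieldOrth.inA_add C.uf haa (hmul (r * f x e)) (hperp _ hbr hba hbe r)
    convert! h using 1
    rw [hxa]
    module
  refine centre_of_radical_any C.uf hca (fun w b hwa hb => ?_) hec (by rw [hea]; exact one_ne_zero)
  obtain ⟨x, z, hx, hz, rfl⟩ := exists_rat_split (P := P) C.idx w
  obtain ⟨hxa, hza⟩ := SubfieldOrth.split_zero C.uf C.idx C.rat hx hz ha hwa
  obtain ⟨-, c, hc, hcM⟩ := SubfieldOrth.inA_add C.uf haa (by simpa using hratA x hx hxa 1)
    (hratA z hz hza ε)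
  have h := SubfieldOrth.qe_mul C.uf haa (hzero_left C.uf a) hwa (b - c) c
  rw [zero_add, hzero_right C.uf, sub_zero, sub_add_cancel, SubfieldOrth.qe_zero C.uf a haa] at h
  rw [← h]
  exact mul_mem (hca.2 _ (by rw [map_sub]; linear_combination hb - hc)) hcM

end Cfsg.Agent.SU4Geo98.Orth
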